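import Cfsg.Agent.Lib.FocalW.Model
import Cfsg.Agent.S5096
import Mathlib

/-! # The climbing loop for stable maps -/

set_option autoImplicit false

namespace Cfsg.Agent.Lib.FocalW

open Cfsg Cfsg.FusionSystem Cfsg.Agent.Lib.Fusion Cfsg.Agent.Lib.Fusion.Biset

universe u

section

variable {Ω : Type*} [Group Ω] {S : Subgroup Ω}

theorem normalizerHom_mono {T : Subgroup Ω} (hTS : T ≤ S) {D : FusionSystem T} {F : FusionSystem S}
    (hDF : ∀ P, D.Hom P ⊆ F.Hom P) (X P : Subgroup Ω) : D.normalizerHom X P ⊆ F.normalizerHom X P := by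
  rintro φ ⟨h1, h2, h3, ψ, hψ, h4, h5⟩
  have hm : normalizerIn T X ≤ normalizerIn S X := inf_le_inf_right _ hTS
  exact ⟨hDF _ h1, h2.trans hm, fun x => hm (h3 x), ψ, hDF _ hψ, h4, h5⟩

theorem exists_unstable_of_focal_le {T : Subgroup Ω} (hTS : T ≤ S) {D : FusionSystem T} {F : FusionSystem S}
    (hDF : ∀ P, D.Hom P ⊆ F.Hom P) {Tf : Subgroup Ω} (hTf : ⁅S, S⁆ ≤ Tf) {X : Subgroup Ω}
    {Dn : FusionSystem (normalizerIn T X)} (hDn : D.IsNormalizerSystem X Dn)
    (hfoc : D.focalSubgroup ≤ Dn.focalSubgroup) {P : Subgroup Ω} {φ : P →* Ω} (hφ : φ ∈ D.Hom P)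
    (hφN : φ ∉ (stableSystem F Tf hTf).Hom P) :
    ∃ (P₃ : Subgroup Ω) (φ₃ : P₃ →* Ω), φ₃ ∈ F.normalizerHom X P₃ ∧ φ₃ ∉ (stableSystem F Tf hTf).Hom P₃ := by
  by_contra hcon
  push Not at hcon
  apply hφN
  refine ⟨hDF _ hφ, fun x => ?_⟩
  have h1 := hfoc (mem_focal hφ x)
  have h2 : Dn.focalSubgroup ≤ Tf := focal_le_of_forall fun P' β hβ y => by
    rw [hDn P'] at hβ
    exact (hcon P' β (normalizerHom_mono hTS hDF _ _ hβ)).2 y
  exact h2 h1

end

variable {p : ℕ} [Fact p.Prime] {W : ∀ (Q : Type u) [Group Q], Subgroup Q}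

/-- The climbing loop for stable maps. -/
theorem stable_loop {Ω : Type u} [Group Ω] {S : Subgroup Ω} [Finite S] {F : FusionSystem S} (hS : IsPGroup p S)
    (hF : F.IsSaturated p) {Tf : Subgroup Ω} (hTf : ⁅S, S⁆ ≤ Tf)
    (hbase : ∀ (P : Subgroup Ω) (φ : P →* Ω), φ ∈ F.normalizerHom (funW W S) P → φ ∈ (stableSystem F Tf hTf).Hom P)
    (hW1 : ∀ (Q : Type u) [Group Q] [Finite Q], IsPGroup p Q → Nontrivial Q → W Q ≠ ⊥)
    (hW2 : ∀ (Q R : Type u) [Group Q] [Group R] [Finite Q], IsPGroup p Q → ∀ φ : Q ≃* R, (W Q).map φ.toMonoidHom = W R)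
    {m : ℕ} (hM : ∀ (R : Subgroup Ω) (φ : R →* Ω), φ ∈ F.Hom R → m < Nat.card R → φ ∈ (stableSystem F Tf hTf).Hom R)
    (hIH : ∀ {U₀ : Subgroup Ω}, F.IsFullyNormalized U₀ → U₀ ≠ ⊥ → ∀ D : FusionSystem (normalizerIn S U₀),
      F.IsNormalizerSystem U₀ D → ∀ Dn : FusionSystem (normalizerIn (normalizerIn S U₀) (funW W (normalizerIn S U₀))),
        D.IsNormalizerSystem (funW W (normalizerIn S U₀)) Dn → D.focalSubgroup ≤ Dn.focalSubgroup) :
    ∀ (k : ℕ) (T' : Subgroup Ω), Nat.card S - Nat.card T' ≤ k → T' ≤ S → T' ≠ ⊥ → m ≤ Nat.card T' →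
      (∃ (P : Subgroup Ω) (φ : P →* Ω), φ ∈ F.normalizerHom (funW W T') P ∧ φ ∉ (stableSystem F Tf hTf).Hom P) → False := by
  have hNF : ∀ P, (stableSystem F Tf hTf).Hom P ⊆ F.Hom P := fun P φ hφ => hφ.1
  intro k
  induction k with
  | zero =>
    intro T' hn hT'S _ _ ⟨P, φ, hφ, hφN⟩
    have hcard : Nat.card S ≤ Nat.card T' := by omega
    have : T' = S := eq_of_le_of_card_le le_rfl hT'S hcard
    subst this
    exact hφN (hbase P φ hφ)
  | succ k ih =>
    intro T' hn hT'S hT'ne hm ⟨P, φ, hφ, hφN⟩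
    by_cases hT'eq : T' = S
    · subst hT'eq
      exact hφN (hbase P φ hφ)
    have hlt : T' < S := lt_of_le_of_ne hT'S hT'eq
    have hT'p : IsPGroup p T' := hS.to_le hT'S
    have : Finite T' := finite_of_le hT'S
    obtain ⟨U', hU'⟩ : ∃ U', U' = funW W T' := ⟨_, rfl⟩
    rw [← hU'] at hφ
    have hU'T' : U' ≤ T' := hU' ▸ funW_le W T'
    have hU'S : U' ≤ S := hU'T'.trans hT'S
    have hU'ne : U' ≠ ⊥ := hU' ▸ funW_ne_bot hW1 hT'p hT'ne
    have : Finite U' := finite_of_le hU'S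
    have hNN : normalizerIn S T' ≤ normalizerIn S U' := fun g hg => by
      have hg' := mem_normalizerIn.1 hg
      exact mem_normalizerIn.2 ⟨hg'.1, hU' ▸ funW_normalized hW2 hT'p hg'.2⟩
    have hcard1 : Nat.card T' < Nat.card (normalizerIn S U') :=
      lt_of_lt_of_le (card_lt_of_lt (normalizerIn_le _) (lt_normalizerIn hS hlt)) (card_le_of_le (normalizerIn_le _) hNN)
    obtain ⟨U₀, hfn, hconj, P₂, φ', hφ', hφ'N⟩ := exists_conj_normalizerHom hS hF hNF hU'S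
      (fun χ hχ => hM _ χ hχ (lt_of_le_of_lt hm hcard1)) hφ hφN
    have hU₀ne : U₀ ≠ ⊥ := by
      rintro rfl
      obtain ⟨e, -⟩ := isConj_iff.1 hconj
      apply hU'ne
      have : Subsingleton U' := e.toEquiv.subsingleton
      rw [eq_bot_iff]
      intro x hx
      exact Subgroup.mem_bot.2 (congrArg Subtype.val (Subsingleton.elim (⟨x, hx⟩ : U') 1))
    obtain ⟨D, hD⟩ := Cfsg.Agent.S5096.result F U₀ hfn.1
    obtain ⟨Dn, hDn⟩ := Cfsg.Agent.S5096.result D (funW W (normalizerIn S U₀)) (funW_le W _)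
    have hφ'D : φ' ∈ D.Hom P₂ := by
      rw [hD P₂]
      exact hφ'
    obtain ⟨P₃, φ₃, h3, h4⟩ := exists_unstable_of_focal_le (normalizerIn_le _)
      (fun P ψ h => by rw [hD] at h; exact h.1) hTf hDn (hIH hfn hU₀ne D hD Dn hDn) hφ'D hφ'N
    have hc1 : Nat.card (normalizerIn S U') ≤ Nat.card (normalizerIn S U₀) := hfn.2 _ (conj_symm hconj)
    have hc2 : Nat.card (normalizerIn S U₀) ≤ Nat.card S := card_le_of_le le_rfl (normalizerIn_le _)
    have hT₃ne : normalizerIn S U₀ ≠ ⊥ := fun hb => hU₀ne (le_bot_iff.1 (hb ▸ le_normalizerIn hfn.1))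
    exact ih _ (by omega) (normalizerIn_le _) hT₃ne (by omega) ⟨P₃, φ₃, h3, h4⟩

/-- The commutator subgroup of `S` lies in the focal subgroup of the normalizer system. -/
theorem commutator_le_focal_normalizer {Ω : Type u} [Group Ω] {S : Subgroup Ω} [Finite S] (hS : IsPGroup p S)
    (hW2 : ∀ (Q R : Type u) [Group Q] [Group R] [Finite Q], IsPGroup p Q → ∀ φ : Q ≃* R, (W Q).map φ.toMonoidHom = W R)
    (N : FusionSystem (normalizerIn S (funW W S))) : ⁅S, S⁆ ≤ N.focalSubgroup := by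
  have hNS := normalizerIn_funW (W := W) hS hW2
  have e : ⁅S, S⁆ = ⁅normalizerIn S (funW W S), normalizerIn S (funW W S)⁆ := by rw [hNS]
  rw [e]
  exact commutator_le_focal

/-- Control of transfer, given the theorem for all normalizer systems of nontrivial subgroups. -/
theorem focal_le_of_normalizer_IH {Ω : Type u} [Group Ω] {S : Subgroup Ω} [Finite S] {F : FusionSystem S}
    (hS : IsPGroup p S) (hF : F.IsSaturated p) {N : FusionSystem (normalizerIn S (funW W S))}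
    (hN : F.IsNormalizerSystem (funW W S) N)
    (hW1 : ∀ (Q : Type u) [Group Q] [Finite Q], IsPGroup p Q → Nontrivial Q → W Q ≠ ⊥)
    (hW2 : ∀ (Q R : Type u) [Group Q] [Group R] [Finite Q], IsPGroup p Q → ∀ φ : Q ≃* R, (W Q).map φ.toMonoidHom = W R)
    (hIH : ∀ {U₀ : Subgroup Ω}, F.IsFullyNormalized U₀ → U₀ ≠ ⊥ → ∀ D : FusionSystem (normalizerIn S U₀),
      F.IsNormalizerSystem U₀ D → ∀ Dn : FusionSystem (normalizerIn (normalizerIn S U₀) (funW W (normalizerIn S U₀))),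
        D.IsNormalizerSystem (funW W (normalizerIn S U₀)) Dn → D.focalSubgroup ≤ Dn.focalSubgroup) :
    F.focalSubgroup ≤ N.focalSubgroup := by
  by_cases hSb : S = ⊥
  · intro x hx
    have h1 := focal_le hx
    rw [hSb, Subgroup.mem_bot] at h1
    rw [h1]
    exact Subgroup.one_mem _
  have hTf : ⁅S, S⁆ ≤ N.focalSubgroup := commutator_le_focal_normalizer hS hW2 N
  have hbase : ∀ (P : Subgroup Ω) (φ : P →* Ω), φ ∈ F.normalizerHom (funW W S) P →
      φ ∈ (stableSystem F N.focalSubgroup hTf).Hom P := by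
    intro P φ hφ
    refine ⟨hφ.1, fun x => mem_focal (F := N) ?_ x⟩
    rw [hN P]
    exact hφ
  have hall : ∀ (P : Subgroup Ω) (φ : P →* Ω), φ ∈ F.Hom P → φ ∈ (stableSystem F N.focalSubgroup hTf).Hom P := by
    by_contra hcon
    push Not at hcon
    obtain ⟨P, φ, hφ, hne⟩ := hcon
    obtain ⟨Q, hQn, hQc, ⟨α, hα, hαN⟩, hmax⟩ := exists_notin_max hS hF (le_rfl : S ≤ S) ⟨P, φ, hφ, hne⟩
    have hQS := hQn.1
    obtain ⟨D, hD⟩ := Cfsg.Agent.S5096.result F Q hQS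
    obtain ⟨Dn, hDn⟩ := Cfsg.Agent.S5096.result D (funW W (normalizerIn S Q)) (funW_le W _)
    have hQne : Q ≠ ⊥ := by
      rintro rfl
      apply hSb
      rw [eq_bot_iff]
      intro g hg
      have h1 : g ∈ centralizerIn S (⊥ : Subgroup Ω) := by
        refine mem_centralizerIn.2 ⟨hg, ?_⟩
        intro y hy
        have hy' : y = 1 := Subgroup.mem_bot.1 hy
        simp [hy']
      exact hQc.2 ⊥ (Cfsg.Agent.Lib.Fusion.IsConj.refl hQS) h1
    have hαD : Q.subtype.comp α.toMonoidHom ∈ D.Hom Q :=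
      (mem_autGroup_iff (le_normalizerIn hQS)).1 (by rw [autGroup_normalizerSystem hQS hD]; exact hα)
    obtain ⟨P₃, φ₃, h3, h4⟩ := exists_unstable_of_focal_le (normalizerIn_le _)
      (fun P ψ h => by rw [hD] at h; exact h.1) hTf hDn (hIH hQn hQne D hD Dn hDn) hαD hαN
    have hTne : normalizerIn S Q ≠ ⊥ := fun hb => hQne (le_bot_iff.1 (hb ▸ le_normalizerIn hQS))
    exact stable_loop hS hF hTf hbase hW1 hW2 hmax hIH _ (normalizerIn S Q) le_rfl (normalizerIn_le Q) hTne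
      (card_le_of_le (normalizerIn_le Q) (le_normalizerIn hQS)) ⟨P₃, φ₃, h3, h4⟩
  exact focal_le_of_forall fun P φ hφ x => (hall P φ hφ).2 x

end Cfsg.Agent.Lib.FocalW
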