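import Cfsg.Agent.Lib.FocalW.Stable
import Cfsg.Agent.Lib.Fusion.FunctorNormal
import Cfsg.Agent.Lib.Fusion.FrameworkModel
import Cfsg.Agent.Lib.Fusion.ModelThm
import Cfsg.Agent.Lib.Fusion.ModelUse
import Mathlib

/-! # The constrained case of control of transfer by a functor -/

set_option autoImplicit false

namespace Cfsg.Agent.Lib.FocalW

open Cfsg Cfsg.FusionSystem Cfsg.Agent.Lib.Fusion Cfsg.Agent.Lib.Fusion.Biset
open scoped commutatorElement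

universe u

/-- The local condition: transfer control in the groups with `C(O_p) ≤ O_p`. -/
def LocalTransfer (p : ℕ) (W : ∀ (Q : Type u) [Group Q], Subgroup Q) : Prop :=
  ∀ (G : Type u) [Group G] [Finite G] (P : Sylow p G),
    Subgroup.centralizer ((pCore p G : Subgroup G) : Set G) ≤ pCore p G →
      pCore p G ⊓ commutator G = pCore p G ⊓
        (commutator ↥(Subgroup.normalizer ((funW W (P : Subgroup G) : Subgroup G) : Set G))).map
          (Subgroup.normalizer ((funW W (P : Subgroup G) : Subgroup G) : Set G)).subtype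

section

variable {Ω : Type*} [Group Ω] {S : Subgroup Ω} {F : FusionSystem S}

/-- A realized system: focal elements go to the derived subgroup. -/
theorem focal_map_commutator {G : Type*} [Group G] {ι : S →* G} (hreal : F.IsRealizedBy ι) {x : Ω}
    (hx : x ∈ F.focalSubgroup) (hxS : x ∈ S) : ι ⟨x, hxS⟩ ∈ commutator G := by
  have hle : F.focalSubgroup ≤ preimageAlong ι (commutator G) := by
    refine focal_le_of_forall fun P φ hφ y => ?_
    have hPS := hom_le F hφ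
    have hv := hom_val F hφ
    obtain ⟨g, hg⟩ := (hreal.2 P hPS φ hv).1 hφ
    refine mem_preimageAlong.2 ⟨S.mul_mem (S.inv_mem (hPS y.2)) (hv y), ?_⟩
    have e : ι ⟨(y : Ω)⁻¹ * φ y, S.mul_mem (S.inv_mem (hPS y.2)) (hv y)⟩ =
        (ι ⟨y, hPS y.2⟩)⁻¹ * ι ⟨φ y, hv y⟩ := by
      rw [← map_inv, ← map_mul]
      rfl
    rw [e, hg y]
    have e2 : (ι ⟨y, hPS y.2⟩)⁻¹ * (g * ι ⟨y, hPS y.2⟩ * g⁻¹) = ⁅(ι ⟨y, hPS y.2⟩)⁻¹, g⁆ := by
      simp [commutatorElement_def, mul_assoc]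
    rw [e2]
    exact Subgroup.commutator_mem_commutator trivial trivial
  obtain ⟨_, h⟩ := mem_preimageAlong.1 (hle hx)
  exact h

end

variable {p : ℕ} [Fact p.Prime] {W : ∀ (Q : Type u) [Group Q], Subgroup Q}

section

variable {Ω : Type u} [Group Ω] {S : Subgroup Ω} [Finite S] {F : FusionSystem S} {L : Type u} [Group L] [Finite L]
  {ι : S →* L}

/-- A commutator in the normalizer of the functor in a model comes from the normalizer system. -/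
theorem comm_mem_focal
    (hW2 : ∀ (Q R : Type u) [Group Q] [Group R] [Finite Q], IsPGroup p Q → ∀ φ : Q ≃* R, (W Q).map φ.toMonoidHom = W R)
    (hS : IsPGroup p S) (hreal : F.IsRealizedBy ι) {P₀ : Subgroup L} (hP₀ : P₀ = ι.range)
    {N : FusionSystem (normalizerIn S (funW W S))} (hN : F.IsNormalizerSystem (funW W S) N)
    (s : S) {a : L} (ha : a ∈ Subgroup.normalizer ((funW W P₀ : Subgroup L) : Set L)) (hc : ⁅ι s, a⁆ ∈ P₀) :
    ∃ (t : Ω) (ht : t ∈ S), t ∈ N.focalSubgroup ∧ ι ⟨t, ht⟩ = ⁅ι s, a⁆ := by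
  classical
  have hinj := hreal.1
  obtain ⟨X, hXe⟩ : ∃ X, X = funW W S := ⟨_, rfl⟩
  have hXS : X ≤ S := hXe ▸ funW_le W S
  have hNS : normalizerIn S X = S := hXe ▸ normalizerIn_funW hS hW2
  have hYe : (X.subgroupOf S).map ι = funW W P₀ := hXe ▸ funW_model hW2 hS hinj hP₀
  have hYP : funW W P₀ ≤ ι.range := hP₀ ▸ funW_le W P₀
  -- the domain
  let K : Subgroup L := ι.range ⊓ (ι.range).comap (MulAut.conj a).toMonoidHom
  let P₂ : Subgroup Ω := preimageAlong ι K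
  have hP₂S : P₂ ≤ S := preimageAlong_le K
  have hmemP₂ : ∀ t : P₂, a * ι ⟨t, hP₂S t.2⟩ * a⁻¹ ∈ ι.range := by
    intro t
    obtain ⟨h1, h2⟩ := mem_preimageAlong.1 t.2
    exact h2.2
  let f : P₂ →* L := (MulAut.conj a).toMonoidHom.comp (ι.comp (Subgroup.inclusion hP₂S))
  have hf : ∀ t : P₂, f t ∈ ι.range := hmemP₂
  let e : S ≃* ι.range := MonoidHom.ofInjective hinj
  let φ : P₂ →* Ω := S.subtype.comp (e.symm.toMonoidHom.comp (f.codRestrict ι.range hf))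
  have hφS : ∀ t : P₂, φ t ∈ S := fun t => (e.symm _).2
  have hφι : ∀ t : P₂, ι ⟨φ t, hφS t⟩ = a * ι ⟨t, hP₂S t.2⟩ * a⁻¹ := by
    intro t
    have h1 : (⟨φ t, hφS t⟩ : S) = e.symm ⟨f t, hf t⟩ := rfl
    rw [h1]
    have h2 : ι (e.symm ⟨f t, hf t⟩) = ((e (e.symm ⟨f t, hf t⟩) : ι.range) : L) := rfl
    rw [h2, MulEquiv.apply_symm_apply]
    rfl
  have hφF : φ ∈ F.Hom P₂ := (hreal.2 P₂ hP₂S φ hφS).2 ⟨a, hφι⟩
  -- `X` lies in the domain
  have hXY : ∀ x (hx : x ∈ X), ι ⟨x, hXS hx⟩ ∈ funW W P₀ := fun x hx => by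
    rw [← hYe]
    exact ⟨⟨x, hXS hx⟩, Subgroup.mem_subgroupOf.2 hx, rfl⟩
  have hYX : ∀ y ∈ funW W P₀, ∃ x, ∃ hx : x ∈ X, ι ⟨x, hXS hx⟩ = y := fun y hy => by
    rw [← hYe] at hy
    obtain ⟨x, hx, rfl⟩ := hy
    exact ⟨x, Subgroup.mem_subgroupOf.1 hx, rfl⟩
  have haY : ∀ y, y ∈ funW W P₀ → a * y * a⁻¹ ∈ funW W P₀ := fun y hy =>
    (Subgroup.mem_normalizer_iff.1 ha y).1 hy
  have hXP₂ : X ≤ P₂ := by
    intro x hx
    refine mem_preimageAlong.2 ⟨hXS hx, ⟨⟨_, rfl⟩, ?_⟩⟩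
    exact hYP (haY _ (hXY x hx))
  have hsinv : (s : Ω)⁻¹ ∈ P₂ := by
    refine mem_preimageAlong.2 ⟨S.inv_mem s.2, ⟨⟨_, rfl⟩, ?_⟩⟩
    have h1 : ι ⟨(s : Ω)⁻¹, S.inv_mem s.2⟩ = (ι s)⁻¹ := by
      rw [← map_inv]
      rfl
    show a * ι ⟨(s : Ω)⁻¹, S.inv_mem s.2⟩ * a⁻¹ ∈ ι.range
    rw [h1]
    have h2 : a * (ι s)⁻¹ * a⁻¹ = (ι s)⁻¹ * ⁅ι s, a⁆ := by
      simp [commutatorElement_def, mul_assoc]
    rw [h2]
    exact Subgroup.mul_mem _ (Subgroup.inv_mem _ ⟨s, rfl⟩) (hP₀ ▸ hc)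
  -- the map normalizes `X`
  have hsup : P₂ ⊔ X ≤ P₂ := sup_le le_rfl hXP₂
  have hψ := res_mem F hφF hsup
  have hmap : (X.subgroupOf (P₂ ⊔ X)).map (φ.comp (Subgroup.inclusion hsup)) = X := by
    ext y
    constructor
    · rintro ⟨x, hx, rfl⟩
      have hxX : (x : Ω) ∈ X := Subgroup.mem_subgroupOf.1 hx
      have h1 : ι ⟨φ (Subgroup.inclusion hsup x), hφS _⟩ = a * ι ⟨x, hXS hxX⟩ * a⁻¹ := hφι _
      have h2 := haY _ (hXY _ hxX)
      rw [← h1] at h2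
      obtain ⟨x', hx', he⟩ := hYX _ h2
      have := hinj he
      have h3 : x' = φ (Subgroup.inclusion hsup x) := congrArg Subtype.val this
      show φ (Subgroup.inclusion hsup x) ∈ X
      rw [← h3]
      exact hx'
    · intro hy
      have h1 : a⁻¹ * ι ⟨y, hXS hy⟩ * a⁻¹⁻¹ ∈ funW W P₀ := by
        have hainv : a⁻¹ ∈ Subgroup.normalizer ((funW W P₀ : Subgroup L) : Set L) := Subgroup.inv_mem _ ha
        exact (Subgroup.mem_normalizer_iff.1 hainv _).1 (hXY y hy)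
      obtain ⟨x, hx, he⟩ := hYX _ h1
      refine ⟨⟨x, (le_sup_right : X ≤ P₂ ⊔ X) hx⟩, Subgroup.mem_subgroupOf.2 hx, ?_⟩
      have h2 : ι ⟨φ ⟨x, hXP₂ hx⟩, hφS _⟩ = a * ι ⟨x, hXS hx⟩ * a⁻¹ := hφι _
      have h3 : ι ⟨φ ⟨x, hXP₂ hx⟩, hφS _⟩ = ι ⟨y, hXS hy⟩ := by
        rw [h2, he]
        group
      exact congrArg Subtype.val (hinj h3)
  have hmem : φ ∈ F.normalizerHom X P₂ := by
    refine ⟨hφF, ?_, ?_, _, hψ, fun x => rfl, hmap⟩
    · rw [hNS]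
      exact hP₂S
    · intro x
      rw [hNS]
      exact hφS x
  have hφN : φ ∈ N.Hom P₂ := by
    rw [hN P₂, ← hXe]
    exact hmem
  have hgen := mem_focal hφN ⟨_, hsinv⟩
  have hval : φ ⟨_, hsinv⟩ ∈ S := hφS _
  have hc1 : ((⟨_, hsinv⟩ : P₂) : Ω)⁻¹ * φ ⟨_, hsinv⟩ ∈ S :=
    S.mul_mem (S.inv_mem (hP₂S hsinv)) hval
  refine ⟨_, hc1, hgen, ?_⟩
  have h1 : ι ⟨((⟨_, hsinv⟩ : P₂) : Ω)⁻¹ * φ ⟨_, hsinv⟩, hc1⟩ = ι s * ι ⟨φ ⟨_, hsinv⟩, hval⟩ := by
    rw [← map_mul]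
    congr 1
    apply Subtype.ext
    simp
  rw [h1, hφι]
  have h2 : ι ⟨((⟨_, hsinv⟩ : P₂) : Ω), hP₂S hsinv⟩ = (ι s)⁻¹ := by
    rw [← map_inv]
    rfl
  rw [h2]
  simp [commutatorElement_def, mul_assoc]

end

/-- **The constrained case.** -/
theorem inf_focal_le_of_centric
    (hW2 : ∀ (Q R : Type u) [Group Q] [Group R] [Finite Q], IsPGroup p Q → ∀ φ : Q ≃* R, (W Q).map φ.toMonoidHom = W R)
    (hT : LocalTransfer p W) {Ω : Type u} [Group Ω] {S : Subgroup Ω} [Finite S] {F : FusionSystem S}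
    (hS : IsPGroup p S) (hF : F.IsSaturated p) {N : FusionSystem (normalizerIn S (funW W S))}
    (hN : F.IsNormalizerSystem (funW W S) N) {Q : Subgroup Ω} (hQn : F.IsNormal Q) (hQc : F.IsCentric Q) :
    Q ⊓ F.focalSubgroup ≤ N.focalSubgroup := by
  classical
  obtain ⟨L, _, ι, hm⟩ := exists_model hS hF hQn hQc
  have hfin : Finite L := hm.1
  have hreal := hm.2.1
  obtain ⟨P₀, hP₀⟩ := hm.2.2.1
  have hC := hm.2.2.2
  rintro z ⟨hzQ, hzf⟩
  have hzS : z ∈ S := focal_le hzf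
  have hzc := focal_map_commutator hreal hzf hzS
  obtain ⟨hz1, hz2⟩ := mem_preimageAlong.1 (IsModel.isNormal_le hm hQn hS hzQ)
  have hz3 : ι ⟨z, hzS⟩ ∈ pCore p L ⊓ commutator L := ⟨hz2, hzc⟩
  rw [hT L P₀ hC] at hz3
  -- the Sylow subgroup of the normalizer
  set H : Subgroup L := Subgroup.normalizer ((funW W (P₀ : Subgroup L) : Subgroup L) : Set L) with hH
  obtain ⟨y, hy, hye⟩ := hz3.2
  have hP₀H : (P₀ : Subgroup L) ≤ H := fun x hx => funW_normalized hW2 P₀.isPGroup' (Subgroup.le_normalizer hx)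
  let P₁ : Sylow p H := P₀.subtype hP₀H
  have hyP : y ∈ (P₁ : Subgroup H) := by
    rw [Sylow.coe_subtype]
    rw [Subgroup.mem_subgroupOf]
    show (y : L) ∈ (P₀ : Subgroup L)
    have : (y : L) = ι ⟨z, hzS⟩ := hye
    rw [this, hP₀]
    exact ⟨_, rfl⟩
  have hfoc : y ∈ (P₁ : Subgroup H).focalSubgroup := by
    rw [← Subgroup.commutator_inf_eq_focalSubgroup P₁]
    exact ⟨hy, hyP⟩
  have hle : (P₁ : Subgroup H).focalSubgroup ≤
      ((N.focalSubgroup.subgroupOf S).map ι).comap H.subtype := by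
    rw [Subgroup.focalSubgroup_def, Subgroup.closure_le]
    rintro g ⟨hg, x, hx, u, rfl⟩
    have hxP : (x : L) ∈ (P₀ : Subgroup L) := by
      rw [Sylow.coe_subtype, Subgroup.mem_subgroupOf] at hx
      exact hx
    have hgP : ⁅(x : L), (u : L)⁆ ∈ (P₀ : Subgroup L) := by
      rw [Sylow.coe_subtype, Subgroup.mem_subgroupOf] at hg
      exact hg
    rw [hP₀] at hxP
    obtain ⟨s, hs⟩ := hxP
    rw [← hs] at hgP
    obtain ⟨t, ht, ht1, ht2⟩ := comm_mem_focal hW2 hS hreal hP₀ hN s u.2 hgP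
    refine ⟨⟨t, ht⟩, Subgroup.mem_subgroupOf.2 ht1, ?_⟩
    show ι ⟨t, ht⟩ = ⁅(x : L), (u : L)⁆
    rw [ht2, hs]
  obtain ⟨t, ht, he⟩ := hle hfoc
  have h1 : ι t = ι ⟨z, hzS⟩ := by
    rw [he, ← hye]
  have h2 : t = ⟨z, hzS⟩ := hreal.1 h1
  have h3 : (t : Ω) ∈ N.focalSubgroup := Subgroup.mem_subgroupOf.1 ht
  rw [h2] at h3
  exact h3

end Cfsg.Agent.Lib.FocalW
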