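import Cfsg.Agent.Lib.Fusion.BisetFocal
import Cfsg.Agent.Lib.Fusion.Closed
import Mathlib

/-! # Stable maps and the transfer of a saturated fusion system on elements stable modulo a subgroup -/

set_option autoImplicit false

namespace Cfsg.Agent.Lib.FocalW

open Cfsg Cfsg.FusionSystem Cfsg.Agent.Lib.Fusion Cfsg.Agent.Lib.Fusion.Biset
open scoped commutatorElement

universe u w

section Stable

variable {Ω : Type*} [Group Ω] {S : Subgroup Ω}

/-- The maps of `F` which move every element by an element of `D`. -/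
def stableSystem (F : FusionSystem S) (D : Subgroup Ω) (hD : ⁅S, S⁆ ≤ D) : FusionSystem S where
  Hom P := {φ | φ ∈ F.Hom P ∧ ∀ x : P, (x : Ω)⁻¹ * φ x ∈ D}
  le_of_mem h := F.le_of_mem h.1
  injective_of_mem h := F.injective_of_mem h.1
  conj_mem {P g} hP hg := ⟨F.conj_mem hP hg, fun x => by
    have h1 := hD (Subgroup.commutator_mem_commutator (S.inv_mem (hP x.2)) hg)
    have e : (x : Ω)⁻¹ * conjHom P g x = ⁅(x : Ω)⁻¹, g⁆ := by
      simp [conjHom, commutatorElement_def, mul_assoc]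
    rw [e]
    exact h1⟩
  comp_mem {P Q φ ψ} hφ hψ h := ⟨F.comp_mem hφ.1 hψ.1 h, fun x => by
    have h1 := hφ.2 x
    have h2 := hψ.2 ⟨φ x, h x⟩
    have e : (x : Ω)⁻¹ * (ψ.comp (φ.codRestrict Q h)) x = ((x : Ω)⁻¹ * φ x) * ((φ x)⁻¹ * ψ ⟨φ x, h x⟩) := by
      show (x : Ω)⁻¹ * ψ ⟨φ x, h x⟩ = _
      group
    rw [e]
    exact D.mul_mem h1 h2⟩
  inv_mem {P φ} hφ := by
    obtain ⟨ψ, hψ, hv⟩ := F.inv_mem hφ.1
    refine ⟨ψ, ⟨hψ, ?_⟩, hv⟩
    rintro ⟨_, x, rfl⟩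
    have h1 := hφ.2 x
    have h2 := hv x
    show (φ x)⁻¹ * ψ ⟨φ x, ⟨x, rfl⟩⟩ ∈ D
    rw [h2]
    have e : (φ x)⁻¹ * (x : Ω) = ((x : Ω)⁻¹ * φ x)⁻¹ := by group
    rw [e]
    exact D.inv_mem h1

theorem mem_stableSystem {F : FusionSystem S} {D : Subgroup Ω} {hD : ⁅S, S⁆ ≤ D} {P : Subgroup Ω} {φ : P →* Ω} :
    φ ∈ (stableSystem F D hD).Hom P ↔ φ ∈ F.Hom P ∧ ∀ x : P, (x : Ω)⁻¹ * φ x ∈ D := Iff.rfl

/-- A generator of the focal subgroup. -/
theorem mem_focal {F : FusionSystem S} {P : Subgroup Ω} {φ : P →* Ω} (hφ : φ ∈ F.Hom P) (x : P) :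
    (x : Ω)⁻¹ * φ x ∈ F.focalSubgroup :=
  Subgroup.subset_closure ⟨P, φ, x, hφ, rfl⟩

/-- Bounding the focal subgroup. -/
theorem focal_le_of_forall {F : FusionSystem S} {D : Subgroup Ω}
    (h : ∀ (P : Subgroup Ω) (φ : P →* Ω), φ ∈ F.Hom P → ∀ x : P, (x : Ω)⁻¹ * φ x ∈ D) : F.focalSubgroup ≤ D := by
  rw [focalSubgroup, Subgroup.closure_le]
  rintro _ ⟨P, φ, x, hφ, rfl⟩
  exact h P φ hφ x

/-- Monotonicity of the focal subgroup. -/
theorem focal_mono {T : Subgroup Ω} {E : FusionSystem T} {F : FusionSystem S} (h : ∀ P, E.Hom P ⊆ F.Hom P) :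
    E.focalSubgroup ≤ F.focalSubgroup :=
  focal_le_of_forall fun _ _ hφ x => mem_focal (h _ hφ) x

end Stable

section Transfer

variable {Ω : Type u} [Group Ω] {S : Subgroup Ω} {F : FusionSystem S}
variable {X : Type u} [MulAction (S × S) X]

/-- The transfer on an element whose powers are fixed by `χ` under the maps of the system. -/
theorem transfer_left_stableElt [Fintype (RY S X)] (hX : FGen F X) {A : Type w} [CommGroup A] (χ : S →* A) (z : S)
    (hz : ∀ (Q : Subgroup Ω) (ψ : Q →* Ω) (hψ : ψ ∈ F.Hom Q) (j : ℕ) (hj : ((z ^ j : S) : Ω) ∈ Q),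
      χ ⟨ψ ⟨_, hj⟩, hom_val F hψ _⟩ = χ (z ^ j)) :
    transferR (rfree_of_fgen hX) χ (leftHom S X z) = χ z ^ Fintype.card (RY S X) := by
  classical
  have hfree := rfree_of_fgen (F := F) hX
  rw [transferR_apply]
  have key := prod_cycles (onYPerm (leftHom S X z)) (fun o => (χ (vv (leftHom S X z) o))⁻¹) (χ z) (by
    intro o
    obtain ⟨V, h1, h2⟩ := iterate_vv hfree χ (leftHom S X z) o (Function.minimalPeriod (onYPerm (leftHom S X z)) o)
    have hper : (onYPerm (leftHom S X z))^[Function.minimalPeriod (onYPerm (leftHom S X z)) o] o = o :=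
      Function.isPeriodicPt_minimalPeriod _ _
    rw [hper] at h1
    rw [Finset.prod_inv_distrib, ← h2]
    set j := Function.minimalPeriod (onYPerm (leftHom S X z)) o with hj
    rw [← map_pow] at h1
    have h3 : ((z ^ j, V⁻¹) : S × S) • sec o = sec o := by
      have : ((z ^ j, V⁻¹) : S × S) = ((1, V) : S × S)⁻¹ * (z ^ j, 1) := by simp
      rw [this, mul_smul]
      have h4 : ((z ^ j, 1) : S × S) • sec o = ((1, V) : S × S) • sec o := h1
      rw [h4, inv_smul_smul]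
    obtain ⟨Q, ψ, hψ, he⟩ := hX (sec o)
    have hm : ((z ^ j, V⁻¹) : S × S) ∈ graph S Q ψ := by
      rw [← he]; exact h3
    obtain ⟨h5, h6⟩ := hm
    have h7 := hz Q ψ hψ j h5
    have h8 : V⁻¹ = ⟨ψ ⟨_, h5⟩, hom_val F hψ _⟩ := Subtype.ext h6.symm
    rw [← map_inv, h8, h7, map_pow]) Finset.univ (fun _ _ => Finset.mem_univ _)
  rw [key]
  rfl

/-- The transfer of a saturated fusion system, on elements stable for `χ`. -/
theorem exists_transfer_stable [Finite S] {p : ℕ} [Fact p.Prime] (hS : IsPGroup p S) (hF : F.IsSaturated p) :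
    ∃ n : ℕ, ¬ p ∣ n ∧ ∀ {A : Type w} [CommGroup A] (χ : S →* A), ∃ T : S →* A,
      (∀ (P : Subgroup Ω) (φ : P →* Ω) (hφ : φ ∈ F.Hom P) (x : P),
        T ⟨φ x, hom_val F hφ x⟩ = T ⟨x, hom_le F hφ x.2⟩) ∧
      ∀ z : S, (∀ (Q : Subgroup Ω) (ψ : Q →* Ω) (hψ : ψ ∈ F.Hom Q) (j : ℕ) (hj : ((z ^ j : S) : Ω) ∈ Q),
        χ ⟨ψ ⟨_, hj⟩, hom_val F hψ _⟩ = χ (z ^ j)) → T z = χ z ^ n := by
  classical
  obtain ⟨X, i1, i2, h1, h2, n, hn, hp⟩ := exists_char_biset (F := F) hS hF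
  haveI : Fintype (RY S X) := Fintype.ofFinite _
  have hfree := rfree_of_fgen (F := F) h1
  have hcard : Nat.card (RY S X) = n := by
    have h3 := card_eq_card_RY_mul hfree
    rw [hn] at h3
    exact (Nat.eq_of_mul_eq_mul_right Nat.card_pos h3).symm
  refine ⟨n, hp, fun {A} _ χ => ⟨(transferR hfree χ).comp (leftHom S X), ?_, ?_⟩⟩
  · intro P φ hφ x
    exact transfer_left_stable h1 h2 χ hφ x
  · intro z hz
    have := transfer_left_stableElt h1 χ z hz
    rw [← hcard, Nat.card_eq_fintype_card]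
    exact this

/-- The elements of a subgroup `Q` on which all maps are stable modulo `D`, and which lie in the focal subgroup,
lie in `D`. -/
theorem inf_focal_le [Finite S] {p : ℕ} [Fact p.Prime] (hS : IsPGroup p S) (hF : F.IsSaturated p) {D : Subgroup Ω}
    (hD : ⁅S, S⁆ ≤ D) (Q : Subgroup Ω)
    (h : ∀ (P : Subgroup Ω) (φ : P →* Ω), φ ∈ F.Hom P → ∀ x : P, (x : Ω) ∈ Q → (x : Ω)⁻¹ * φ x ∈ D) :
    Q ⊓ F.focalSubgroup ≤ D := by
  classical
  rintro z ⟨hzQ, hzf⟩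
  have hzS : z ∈ S := focal_le hzf
  let D₀ : Subgroup S := D.subgroupOf S
  have hcomm : ∀ a b : S, ((⁅a, b⁆ : S) : Ω) ∈ D := fun a b =>
    hD (by
      have : ((⁅a, b⁆ : S) : Ω) = ⁅(a : Ω), (b : Ω)⁆ := rfl
      rw [this]
      exact Subgroup.commutator_mem_commutator a.2 b.2)
  haveI hD₀n : D₀.Normal := by
    constructor
    intro a ha g
    have h1 : ((g * a * g⁻¹ * a⁻¹ : S) : Ω) ∈ D := hcomm g a
    have h2 : ((a : S) : Ω) ∈ D := ha
    show ((g * a * g⁻¹ : S) : Ω) ∈ D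
    have e : ((g * a * g⁻¹ : S) : Ω) = ((g * a * g⁻¹ * a⁻¹ : S) : Ω) * a := by simp
    rw [e]
    exact D.mul_mem h1 h2
  letI : CommGroup (↥S ⧸ D₀) :=
    { (QuotientGroup.Quotient.group D₀) with
      mul_comm := by
        intro a b
        induction a using QuotientGroup.induction_on with
        | H a =>
          induction b using QuotientGroup.induction_on with
          | H b =>
            rw [← QuotientGroup.mk_mul, ← QuotientGroup.mk_mul, QuotientGroup.eq]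
            have := hcomm b⁻¹ a⁻¹
            have e : (a * b)⁻¹ * (b * a) = ⁅b⁻¹, a⁻¹⁆ := by
              simp [commutatorElement_def]
              group
            show (((a * b)⁻¹ * (b * a) : S) : Ω) ∈ D
            rw [e]
            exact this }
  let χ : ↥S →* ↥S ⧸ D₀ := QuotientGroup.mk' D₀
  obtain ⟨n, hn, ht⟩ := exists_transfer_stable.{u, u} (F := F) hS hF
  obtain ⟨T, hT1, hT2⟩ := ht χ
  have hz1 := hT2 ⟨z, hzS⟩ (by
    intro Q' ψ hψ j hj
    show ((⟨ψ ⟨_, hj⟩, hom_val F hψ _⟩ : S) : ↥S ⧸ D₀) = (((⟨z, hzS⟩ : S) ^ j : S) : ↥S ⧸ D₀)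
    rw [eq_comm, QuotientGroup.eq]
    show ((((⟨z, hzS⟩ : S) ^ j : S)⁻¹ * ⟨ψ ⟨_, hj⟩, hom_val F hψ _⟩ : S) : Ω) ∈ D
    have hq : (((⟨z, hzS⟩ : S) ^ j : S) : Ω) ∈ Q := by
      have : (((⟨z, hzS⟩ : S) ^ j : S) : Ω) = z ^ j := rfl
      rw [this]
      exact Q.pow_mem hzQ j
    exact h Q' ψ hψ ⟨_, hj⟩ hq)
  obtain ⟨y, hy, hye⟩ := Subgroup.mem_map.mp (focal_le_of_invariant T hT1 hzf)
  have hyz : y = ⟨z, hzS⟩ := Subtype.ext hye
  rw [← hyz, MonoidHom.mem_ker.mp hy] at hz1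
  -- `χ z` has order a power of `p` dividing `n`
  have hpq : IsPGroup p (↥S ⧸ D₀) := IsPGroup.to_quotient hS D₀
  obtain ⟨k, hk⟩ := IsPGroup.iff_orderOf.1 hpq (χ y)
  have h5 : orderOf (χ y) ∣ n := orderOf_dvd_of_pow_eq_one hz1.symm
  have hone : χ y = 1 := by
    rcases Nat.eq_zero_or_pos k with rfl | hkp
    · rw [pow_zero] at hk
      exact orderOf_eq_one_iff.1 hk
    · exfalso
      rw [hk] at h5
      exact hn ((dvd_pow_self p hkp.ne').trans h5)
  have h6 : y ∈ D₀ := (QuotientGroup.eq_one_iff y).1 hone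
  rw [← hye]
  exact h6

end Transfer

end Cfsg.Agent.Lib.FocalW
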